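import Mathlib

/-! Elementary linear algebra for products of two regular unipotent matrices. -/

set_option autoImplicit false

open Matrix

namespace Cfsg.Agent.RegUnipProd

variable {K : Type*} [Field K]

/-- every set of fewer than four elements misses some element -/
def Big (K : Type*) : Prop := ∀ s : Finset K, s.card < 4 → ∃ t, t ∉ s

theorem big_of_mk {K : Type*} (h : 4 ≤ Cardinal.mk K) : Big K := by
  classical
  intro s hs
  by_contra hc
  push Not at hc
  have : Fintype K := ⟨s, hc⟩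
  rw [Cardinal.mk_fintype] at h
  have h4 : 4 ≤ Fintype.card K := by exact_mod_cast h
  have : (Finset.univ : Finset K).card ≤ s.card := Finset.card_le_card (fun x _ => hc x)
  rw [Finset.card_univ] at this
  omega

/-- with four elements and char not two there are five -/
theorem big_five (hK : Big K) (h2 : (2 : K) ≠ 0) (s : Finset K) (hs : s.card < 5) :
    ∃ t, t ∉ s := by
  classical
  by_contra hc
  push Not at hc
  have : Fintype K := ⟨s, hc⟩
  have hle : Fintype.card K ≤ 4 := by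
    have : (Finset.univ : Finset K).card ≤ s.card := Finset.card_le_card (fun x _ => hc x)
    rw [Finset.card_univ] at this
    omega
  have hge : 4 ≤ Fintype.card K := by
    by_contra hlt
    obtain ⟨t, ht⟩ := hK (Finset.univ : Finset K) (by rw [Finset.card_univ]; omega)
    exact ht (Finset.mem_univ t)
  have hc4 : Fintype.card K = 4 := by omega
  have h40 : ((4 : ℕ) : K) = 0 := by rw [← hc4]; exact Nat.cast_card_eq_zero K
  apply h2
  have : (2 : K) * 2 = 0 := by
    have e : ((4 : ℕ) : K) = 2 * 2 := by norm_num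
    rw [← e, h40]
  rcases mul_eq_zero.1 this with h | h <;> exact h

/-- A subspace is not covered by the zero sets of few functionals. -/
theorem avoid {V : Type*} [AddCommGroup V] [Module K V] {ι : Type*} [DecidableEq ι]
    (q : ℕ) (hq : ∀ s : Finset K, s.card < q → ∃ t, t ∉ s) (f : ι → V →ₗ[K] K) :
    ∀ S : Finset ι, S.card ≤ q → (∀ i ∈ S, ∃ v, f i v ≠ 0) → ∃ v, ∀ i ∈ S, f i v ≠ 0 := by
  classical
  intro S
  induction S using Finset.induction_on with
  | empty => intro _ _; exact ⟨0, fun i hi => absurd hi (Finset.notMem_empty i)⟩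
  | @insert a S ha ih =>
    intro hc hex
    rw [Finset.card_insert_of_notMem ha] at hc
    obtain ⟨v, hv⟩ := ih (by omega) (fun i hi => hex i (Finset.mem_insert_of_mem hi))
    by_cases hav : f a v = 0
    · obtain ⟨w, hw⟩ := hex a (Finset.mem_insert_self a S)
      obtain ⟨t, ht⟩ := hq (S.image (fun i => -(f i w) / f i v))
        (lt_of_le_of_lt Finset.card_image_le (by omega))
      refine ⟨w + t • v, fun i hi => ?_⟩
      rcases Finset.mem_insert.1 hi with rfl | hi'
      · simp [hav, hw]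
      · intro h0
        apply ht
        rw [Finset.mem_image]
        refine ⟨i, hi', ?_⟩
        simp only [map_add, map_smul, smul_eq_mul] at h0
        rw [div_eq_iff (hv i hi')]
        linear_combination -h0
    · refine ⟨v, fun i hi => ?_⟩
      rcases Finset.mem_insert.1 hi with rfl | hi'
      · exact hav
      · exact hv i hi'

/-- Four vectors, none killed by all of `P`, are simultaneously not killed. -/
theorem avoid_dot {n : ℕ} (q : ℕ) (hq : ∀ s : Finset K, s.card < q → ∃ t, t ∉ s)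
    (P : Submodule K (Fin n → K)) {k : ℕ} (hk : k ≤ q) (z : Fin k → (Fin n → K))
    (h : ∀ i, ∃ p ∈ P, p ⬝ᵥ z i ≠ 0) : ∃ p ∈ P, ∀ i, p ⬝ᵥ z i ≠ 0 := by
  classical
  let f : Fin k → P →ₗ[K] K := fun i =>
    { toFun := fun p => (p : Fin n → K) ⬝ᵥ z i
      map_add' := fun a b => by simp [add_dotProduct]
      map_smul' := fun c a => by simp [smul_dotProduct] }
  obtain ⟨p, hp⟩ := avoid q hq f Finset.univ (by simpa using hk) (fun i _ => by
    obtain ⟨p, hp, hpz⟩ := h i
    exact ⟨⟨p, hp⟩, hpz⟩)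
  exact ⟨p, p.2, fun i => hp i (Finset.mem_univ i)⟩

theorem exists_dot_ne_zero {n : ℕ} {z : Fin n → K} (h : z ≠ 0) :
    ∃ p : Fin n → K, p ⬝ᵥ z ≠ 0 := by
  classical
  obtain ⟨i, hi⟩ := Function.ne_iff.1 h
  exact ⟨Pi.single i 1, by rw [single_dotProduct, one_mul]; exact hi⟩

/-- If `z` is not a multiple of `d ≠ 0`, something kills `d` but not `z`. -/
theorem exists_kill {n : ℕ} {d z : Fin n → K} (hd : d ≠ 0) (hz : ∀ c : K, z ≠ c • d) :
    ∃ p : Fin n → K, p ⬝ᵥ d = 0 ∧ p ⬝ᵥ z ≠ 0 := by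
  classical
  obtain ⟨k, hk⟩ := Function.ne_iff.1 hd
  simp only [Pi.zero_apply] at hk
  obtain ⟨i, hi⟩ := Function.ne_iff.1 (hz (z k / d k))
  refine ⟨Pi.single i (d k) - Pi.single k (d i), ?_, ?_⟩
  · simp [sub_dotProduct, mul_comm]
  · intro h0
    apply hi
    simp [sub_dotProduct] at h0
    simp only [Pi.smul_apply, smul_eq_mul]
    field_simp
    linear_combination h0

/-- fewer equations than unknowns -/
theorem exists_ker {n k : ℕ} (h : k < n) (z : Fin k → (Fin n → K)) :
    ∃ p : Fin n → K, p ≠ 0 ∧ ∀ i, z i ⬝ᵥ p = 0 := by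
  let f : (Fin n → K) →ₗ[K] (Fin k → K) := Matrix.mulVecLin (Matrix.of z)
  have hne : LinearMap.ker f ≠ ⊥ := by
    apply LinearMap.ker_ne_bot_of_finrank_lt
    simp [h]
  obtain ⟨p, hp, hp0⟩ := Submodule.exists_mem_ne_zero_of_ne_bot hne
  exact ⟨p, hp0, fun i => congrFun (LinearMap.mem_ker.1 hp) i⟩

/-- `M` has rank at most one -/
def Rank1 {n : ℕ} (M : Matrix (Fin n) (Fin n) K) : Prop :=
  ∃ p q : Fin n → K, M = vecMulVec p q

theorem exists_mulVec_notMul {n : ℕ} {M : Matrix (Fin n) (Fin n) K} (hM : ¬ Rank1 M)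
    (d : Fin n → K) : ∃ z : Fin n → K, ∀ c : K, M *ᵥ z ≠ c • d := by
  classical
  by_contra hc
  push Not at hc
  choose c hc' using hc
  apply hM
  refine ⟨d, fun j => c (Pi.single j 1), ?_⟩
  ext i j
  have := congrFun (hc' (Pi.single j 1)) i
  rw [Matrix.mulVec_single] at this
  simpa [vecMulVec_apply, mul_comm] using this

/-- there are vectors, off three hyperplanes, that are no eigenvectors -/
theorem exists_noneigen {n : ℕ} (hK : Big K) (P : Matrix (Fin n) (Fin n) K)
    (hP : ∀ c : K, P ≠ c • (1 : Matrix (Fin n) (Fin n) K))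
    (f1 f2 f3 : Fin n → K) (h1 : f1 ≠ 0) (h2 : f2 ≠ 0) (h3 : f3 ≠ 0)
    (z : Fin n → K) (hz : z ≠ 0) (hz1 : f1 ⬝ᵥ z = 0) (hz2 : f2 ⬝ᵥ z = 0) :
    ∃ v : Fin n → K, f1 ⬝ᵥ v ≠ 0 ∧ f2 ⬝ᵥ v ≠ 0 ∧ f3 ⬝ᵥ v ≠ 0 ∧ ∀ l : K, P *ᵥ v ≠ l • v := by
  classical
  by_contra hc
  push Not at hc
  -- all good vectors have the eigenvalue of `z`
  have key : ∀ (v : Fin n → K) (l : K), f1 ⬝ᵥ v ≠ 0 → f2 ⬝ᵥ v ≠ 0 → f3 ⬝ᵥ v ≠ 0 → P *ᵥ v = l • v →
      P *ᵥ z = l • z := by
    intro v l a1 a2 a3 hv
    let b : K := -(f3 ⬝ᵥ v) / (f3 ⬝ᵥ z)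
    have good : ∀ t : K, t ≠ b → t ≠ 0 → ∃ ν : K, P *ᵥ (v + t • z) = ν • (v + t • z) := by
      intro t htb ht0
      apply hc
      · rw [dotProduct_add, dotProduct_smul, hz1, smul_zero, add_zero]; exact a1
      · rw [dotProduct_add, dotProduct_smul, hz2, smul_zero, add_zero]; exact a2
      · rw [dotProduct_add, dotProduct_smul, smul_eq_mul]
        intro h0
        by_cases hfz : f3 ⬝ᵥ z = 0
        · rw [hfz, mul_zero, add_zero] at h0; exact a3 h0
        · apply htb
          show t = -(f3 ⬝ᵥ v) / (f3 ⬝ᵥ z)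
          rw [eq_div_iff hfz]
          linear_combination h0
    obtain ⟨t₁, ht₁⟩ := hK {0, b} (lt_of_le_of_lt Finset.card_le_two (by norm_num))
    obtain ⟨t₂, ht₂⟩ := hK {0, b, t₁} (lt_of_le_of_lt Finset.card_le_three (by norm_num))
    simp only [Finset.mem_insert, Finset.mem_singleton, not_or] at ht₁ ht₂
    obtain ⟨ν₁, hν₁⟩ := good t₁ ht₁.2 ht₁.1
    obtain ⟨ν₂, hν₂⟩ := good t₂ ht₂.2.1 ht₂.1
    rw [mulVec_add, mulVec_smul, hv] at hν₁ hν₂
    by_cases hindep : ∃ c : K, z = c • v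
    · obtain ⟨c, rfl⟩ := hindep
      rw [mulVec_smul, hv, smul_comm]
    · push Not at hindep
      have e : ∀ i, (t₂ * ν₁ * t₁ - t₁ * ν₂ * t₂) * z i =
          (t₁ * (ν₂ - l) - t₂ * (ν₁ - l)) * v i := by
        intro i
        have a := congrFun hν₁ i
        have b := congrFun hν₂ i
        simp only [Pi.add_apply, Pi.smul_apply, smul_eq_mul] at a b
        linear_combination (-t₂) * a + t₁ * b
      have hcoef : t₂ * ν₁ * t₁ - t₁ * ν₂ * t₂ = 0 := by
        by_contra hne
        apply hindep ((t₁ * (ν₂ - l) - t₂ * (ν₁ - l)) / (t₂ * ν₁ * t₁ - t₁ * ν₂ * t₂))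
        funext i
        rw [Pi.smul_apply, smul_eq_mul, div_mul_eq_mul_div, eq_div_iff hne, mul_comm]
        exact e i
      have heq : ν₁ = ν₂ := by
        have : t₁ * t₂ * (ν₁ - ν₂) = 0 := by linear_combination hcoef
        have h12 : t₁ * t₂ ≠ 0 := mul_ne_zero ht₁.1 ht₂.1
        exact sub_eq_zero.1 ((mul_eq_zero.1 this).resolve_left h12)
      have hvne : v ≠ 0 := fun h => a1 (by rw [h, dotProduct_zero])
      obtain ⟨i, hi⟩ := Function.ne_iff.1 hvne
      simp only [Pi.zero_apply] at hi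
      have hl : ν₁ = l := by
        have h0 := e i
        rw [hcoef, zero_mul, ← heq] at h0
        have h12 : t₁ - t₂ ≠ 0 := sub_ne_zero.2 (Ne.symm ht₂.2.2)
        have : (t₁ - t₂) * (ν₁ - l) * v i = 0 := by linear_combination -h0
        exact sub_eq_zero.1 ((mul_eq_zero.1 ((mul_eq_zero.1 this).resolve_right hi)).resolve_left h12)
      funext j
      have a := congrFun hν₁ j
      rw [hl] at a
      simp only [Pi.add_apply, Pi.smul_apply, smul_eq_mul] at a ⊢
      have : t₁ * ((P *ᵥ z) j - l * z j) = 0 := by linear_combination a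
      exact sub_eq_zero.1 ((mul_eq_zero.1 this).resolve_left ht₁.1)
  obtain ⟨i0, hi0⟩ := Function.ne_iff.1 hz
  simp only [Pi.zero_apply] at hi0
  let μ : K := (P *ᵥ z) i0 / z i0
  have hQ : P - μ • (1 : Matrix (Fin n) (Fin n) K) ≠ 0 := fun h => hP μ (sub_eq_zero.1 h)
  obtain ⟨i, hi⟩ : ∃ i, (P - μ • (1 : Matrix (Fin n) (Fin n) K)) i ≠ 0 := by
    by_contra h; push Not at h; exact hQ (funext h)
  obtain ⟨v, -, hv⟩ := avoid_dot 4 hK ⊤ (le_refl 4)
    ![f1, f2, f3, (P - μ • (1 : Matrix (Fin n) (Fin n) K)) i] (fun j => by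
      have : ![f1, f2, f3, (P - μ • (1 : Matrix (Fin n) (Fin n) K)) i] j ≠ 0 := by
        fin_cases j <;> assumption
      obtain ⟨p, hp⟩ := exists_dot_ne_zero this
      exact ⟨p, Submodule.mem_top, hp⟩)
  have a1 : f1 ⬝ᵥ v ≠ 0 := by rw [dotProduct_comm]; exact hv 0
  have a2 : f2 ⬝ᵥ v ≠ 0 := by rw [dotProduct_comm]; exact hv 1
  have a3 : f3 ⬝ᵥ v ≠ 0 := by rw [dotProduct_comm]; exact hv 2
  obtain ⟨l, hl⟩ := hc v a1 a2 a3
  have hPz := key v l a1 a2 a3 hl
  have hμ : μ = l := by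
    show (P *ᵥ z) i0 / z i0 = l
    rw [hPz, Pi.smul_apply, smul_eq_mul, mul_div_assoc, div_self hi0, mul_one]
  apply hv 3
  show v ⬝ᵥ (P - μ • (1 : Matrix (Fin n) (Fin n) K)) i = 0
  rw [dotProduct_comm]
  show ((P - μ • (1 : Matrix (Fin n) (Fin n) K)) *ᵥ v) i = 0
  rw [sub_mulVec, smul_mulVec, one_mulVec, hl, hμ, sub_self, Pi.zero_apply]

/-- A basis change sending `v` to `e₀` whose first row is `φ`. -/
theorem exists_change {m : ℕ} (v φ : Fin (m + 1) → K) (h : φ ⬝ᵥ v = 1) :
    ∃ S R : Matrix (Fin (m + 1)) (Fin (m + 1)) K, S * R = 1 ∧ R * S = 1 ∧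
      S *ᵥ v = Pi.single 0 1 ∧ R *ᵥ Pi.single 0 1 = v ∧ S 0 = φ := by
  classical
  let ψ : (Fin (m + 1) → K) →ₗ[K] K :=
    { toFun := fun w => φ ⬝ᵥ w
      map_add' := fun a b => dotProduct_add _ _ _
      map_smul' := fun c a => by simp [dotProduct_smul] }
  have hrange : LinearMap.range ψ = ⊤ := by
    rw [LinearMap.range_eq_top]
    intro c
    exact ⟨c • v, by simp [ψ, dotProduct_smul, h]⟩
  have hdim : Module.finrank K (LinearMap.ker ψ) = m := by
    have := LinearMap.finrank_range_add_finrank_ker ψ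
    rw [hrange, finrank_top, Module.finrank_self, Module.finrank_fin_fun] at this
    omega
  let bs : Module.Basis (Fin m) K (LinearMap.ker ψ) := Module.finBasisOfFinrankEq K _ hdim
  let R : Matrix (Fin (m + 1)) (Fin (m + 1)) K :=
    Matrix.of fun i j => Fin.cases (motive := fun _ => K) (v i) (fun k => (bs k : Fin (m + 1) → K) i) j
  have hR0 : R *ᵥ Pi.single 0 1 = v := by
    funext i
    rw [Matrix.mulVec_single]
    simp [R]
  have hRs : ∀ k : Fin m, R *ᵥ Pi.single k.succ 1 = (bs k : Fin (m + 1) → K) := by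
    intro k
    funext i
    rw [Matrix.mulVec_single]
    simp [R]
  have hφR : φ ᵥ* R = Pi.single 0 1 := by
    funext j
    show φ ⬝ᵥ (fun i => R i j) = _
    refine Fin.cases ?_ ?_ j
    · simp [R]; exact h
    · intro k
      have : φ ⬝ᵥ (bs k : Fin (m + 1) → K) = 0 := (bs k).2
      simp [R, this]
  have hdet : R.det ≠ 0 := by
    intro h0
    obtain ⟨a, ha, hRa⟩ := exists_mulVec_eq_zero_iff.2 h0
    have ha0 : a 0 = 0 := by
      have := congrArg (fun w => φ ⬝ᵥ w) hRa
      simp only [dotProduct_mulVec, hφR, single_dotProduct, one_mul, dotProduct_zero] at this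
      exact this
    have hsum : ∑ k, a k.succ • bs k = 0 := by
      apply Subtype.ext
      simp only [Submodule.coe_sum, Submodule.coe_smul, Submodule.coe_zero]
      funext i
      have := congrFun hRa i
      simp only [Matrix.mulVec, dotProduct, Pi.zero_apply] at this
      rw [Fin.sum_univ_succ, ha0, mul_zero, zero_add] at this
      rw [Finset.sum_apply, Pi.zero_apply, ← this]
      refine Finset.sum_congr rfl fun k _ => ?_
      simp [R, mul_comm]
    apply ha
    funext j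
    refine Fin.cases ha0 ?_ j
    intro k
    exact Fintype.linearIndependent_iff.1 bs.linearIndependent _ hsum k
  have hu : IsUnit R.det := isUnit_iff_ne_zero.2 hdet
  refine ⟨R⁻¹, R, nonsing_inv_mul R hu, mul_nonsing_inv R hu, ?_, hR0, ?_⟩
  · rw [← hR0, mulVec_mulVec, nonsing_inv_mul R hu, one_mulVec]
  · have : (Pi.single 0 1 : Fin (m + 1) → K) ᵥ* R⁻¹ = φ := by
      rw [← hφR, vecMul_vecMul, mul_nonsing_inv R hu, vecMul_one]
    rw [← this]
    funext j
    simp [Matrix.vecMul, single_dotProduct]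

end Cfsg.Agent.RegUnipProd
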