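import Cfsg.Agent.Lib.RegUnipProd.Basic

/-! Bordered matrices. -/

set_option autoImplicit false

open Matrix

namespace Cfsg.Agent.RegUnipProd

variable {K : Type*} [Field K] {m : ℕ}

def blk (a : K) (b c : Fin m → K) (W : Matrix (Fin m) (Fin m) K) :
    Matrix (Fin (m + 1)) (Fin (m + 1)) K :=
  Matrix.of fun i => Fin.cases (motive := fun _ => Fin (m + 1) → K) (Fin.cons a b)
    (fun k => Fin.cons (c k) (W k)) i

@[simp] theorem blk_zero_zero (a : K) (b c : Fin m → K) (W) : blk a b c W 0 0 = a := by simp [blk]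
@[simp] theorem blk_zero_succ (a : K) (b c : Fin m → K) (W) (j : Fin m) :
    blk a b c W 0 j.succ = b j := by simp [blk]
@[simp] theorem blk_succ_zero (a : K) (b c : Fin m → K) (W) (i : Fin m) :
    blk a b c W i.succ 0 = c i := by simp [blk]
@[simp] theorem blk_succ_succ (a : K) (b c : Fin m → K) (W) (i j : Fin m) :
    blk a b c W i.succ j.succ = W i j := by simp [blk]

theorem blk_self (A : Matrix (Fin (m + 1)) (Fin (m + 1)) K) :
    A = blk (A 0 0) (fun j => A 0 j.succ) (fun i => A i.succ 0)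
      (Matrix.of fun i j => A i.succ j.succ) := by
  ext i j
  refine Fin.cases ?_ ?_ i <;> refine Fin.cases ?_ ?_ j <;> simp

theorem blk_mul (a a' : K) (b c b' c' : Fin m → K) (W W' : Matrix (Fin m) (Fin m) K) :
    blk a b c W * blk a' b' c' W' =
      blk (a * a' + b ⬝ᵥ c') (a • b' + b ᵥ* W') (a' • c + W *ᵥ c')
        (vecMulVec c b' + W * W') := by
  ext i j
  refine Fin.cases ?_ ?_ i <;> refine Fin.cases ?_ ?_ j <;>
    simp [Matrix.mul_apply, Fin.sum_univ_succ, dotProduct, Matrix.vecMul, Matrix.mulVec,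
      vecMulVec_apply, mul_comm]

theorem blk_one : blk (1 : K) 0 0 (1 : Matrix (Fin m) (Fin m) K) = 1 := by
  ext i j
  refine Fin.cases ?_ ?_ i <;> refine Fin.cases ?_ ?_ j <;>
    simp [Matrix.one_apply, Fin.succ_ne_zero, (Fin.succ_ne_zero _).symm]

theorem det_blk_lower (a : K) (c : Fin m → K) (W : Matrix (Fin m) (Fin m) K) :
    (blk a 0 c W).det = a * W.det := by
  rw [Matrix.det_succ_row_zero, Fin.sum_univ_succ]
  have : (blk a 0 c W).submatrix Fin.succ Fin.succ = W := by ext i j; simp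
  simp [this]

theorem det_blk_upper (a : K) (b : Fin m → K) (W : Matrix (Fin m) (Fin m) K) :
    (blk a b 0 W).det = a * W.det := by
  rw [Matrix.det_succ_column_zero, Fin.sum_univ_succ]
  have : (blk a b 0 W).submatrix Fin.succ Fin.succ = W := by ext i j; simp
  simp [this]

theorem blk_factor (b c : Fin m → K) (W : Matrix (Fin m) (Fin m) K) :
    blk 1 b c W = blk 1 0 c 1 * blk 1 b 0 (W - vecMulVec c b) := by
  rw [blk_mul]
  simp

theorem det_blk (b c : Fin m → K) (W : Matrix (Fin m) (Fin m) K) :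
    (blk 1 b c W).det = (W - vecMulVec c b).det := by
  rw [blk_factor, det_mul, det_blk_lower, det_blk_upper]
  simp

theorem blk_mulVec (a : K) (b c : Fin m → K) (W : Matrix (Fin m) (Fin m) K) (t : K)
    (h : Fin m → K) :
    blk a b c W *ᵥ Fin.cons t h = Fin.cons (a * t + b ⬝ᵥ h) (t • c + W *ᵥ h) := by
  funext i
  refine Fin.cases ?_ ?_ i <;>
    simp [Matrix.mulVec, dotProduct, Fin.sum_univ_succ, mul_comm]

theorem single_zero_eq : (Pi.single 0 1 : Fin (m + 1) → K) = Fin.cons 1 0 := by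
  funext i
  refine Fin.cases ?_ ?_ i <;> simp [Fin.succ_ne_zero]

theorem blk_sub_one (b c : Fin m → K) (W : Matrix (Fin m) (Fin m) K) :
    blk 1 b c W - 1 = blk 0 b c (W - 1) := by
  ext i j
  refine Fin.cases ?_ ?_ i <;> refine Fin.cases ?_ ?_ j <;>
    simp [Matrix.one_apply, Fin.succ_ne_zero, (Fin.succ_ne_zero _).symm]

end Cfsg.Agent.RegUnipProd
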