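import Cfsg.Agent.Lib.RegUnipProd.Blk

/-! The choice of the first vector and functional. -/

set_option autoImplicit false

open Matrix

namespace Cfsg.Agent.RegUnipProd

variable {K : Type*} [Field K]

def Good {n : ℕ} (A : Matrix (Fin n) (Fin n) K) : Prop :=
  (∀ c : K, A ≠ c • (1 : Matrix (Fin n) (Fin n) K)) ∧ ¬ Rank1 (A - 1)

def Bad {n : ℕ} (A : Matrix (Fin n) (Fin n) K) (v φ : Fin n → K) : Prop :=
  ∃ l : K, l ≠ 0 ∧ ∀ h : Fin n → K, φ ⬝ᵥ h = 0 →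
    A *ᵥ h - (φ ⬝ᵥ (A *ᵥ h)) • (A *ᵥ v) = l • h

theorem bad_unique {n : ℕ} (hn : 3 ≤ n) (A : Matrix (Fin n) (Fin n) K) (v φ φ' : Fin n → K)
    (heig : ∀ l : K, A *ᵥ v ≠ l • v)
    (h1 : φ ⬝ᵥ v = 1) (hA1 : φ ⬝ᵥ (A *ᵥ v) = 1) (h1' : φ' ⬝ᵥ v = 1)
    (hb : Bad A v φ) (hb' : Bad A v φ') : φ = φ' := by
  classical
  by_contra hne
  obtain ⟨l, hl0, hl⟩ := hb
  obtain ⟨l', -, hl'⟩ := hb'
  obtain ⟨h, hh0, hh⟩ := exists_ker (k := 2) (by omega) ![φ, φ']
  have e1 := hl h (hh 0)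
  have e2 := hl' h (hh 1)
  have hll : l = l' := by
    have e : (φ' ⬝ᵥ (A *ᵥ h) - φ ⬝ᵥ (A *ᵥ h)) • (A *ᵥ v) = (l - l') • h := by
      rw [sub_smul, sub_smul, ← e1, ← e2]; abel
    have e' := congrArg (fun w => φ ⬝ᵥ w) e
    simp only [dotProduct_smul, smul_eq_mul, hA1, mul_one] at e'
    rw [show φ ⬝ᵥ h = 0 from hh 0, mul_zero] at e'
    rw [e', zero_smul] at e
    obtain ⟨i, hi⟩ := Function.ne_iff.1 hh0
    have := congrFun e i
    simp only [Pi.zero_apply, Pi.smul_apply, smul_eq_mul] at this hi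
    exact sub_eq_zero.1 ((mul_eq_zero.1 this.symm).resolve_right hi)
  have hφ0 : φ ≠ 0 := fun h => by rw [h, zero_dotProduct] at h1; exact zero_ne_one h1
  obtain ⟨g, hg, hg'⟩ := exists_kill (d := φ) (z := φ') hφ0 (fun c hc => by
    apply hne
    have : c = 1 := by rw [hc, smul_dotProduct, h1, smul_eq_mul, mul_one] at h1'; exact h1'
    rw [hc, this, one_smul])
  rw [dotProduct_comm] at hg hg'
  let g1 : Fin n → K := (φ' ⬝ᵥ g)⁻¹ • g
  have hg1 : φ ⬝ᵥ g1 = 0 := by simp [g1, dotProduct_smul, hg]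
  have hg1' : φ' ⬝ᵥ g1 = 1 := by simp [g1, dotProduct_smul, hg']
  have hg2 : φ' ⬝ᵥ (v - g1) = 0 := by rw [dotProduct_sub, hg1', h1', sub_self]
  have a := hl g1 hg1
  have b := hl' (v - g1) hg2
  rw [← hll, mulVec_sub] at b
  have key : (1 - (φ ⬝ᵥ (A *ᵥ g1) + φ' ⬝ᵥ (A *ᵥ v - A *ᵥ g1))) • (A *ᵥ v) = l • v := by
    have : l • v = l • g1 + l • (v - g1) := by rw [← smul_add, add_sub_cancel]
    rw [this, ← a, ← b, sub_smul, one_smul, add_smul]
    abel
  set k := (1 - (φ ⬝ᵥ (A *ᵥ g1) + φ' ⬝ᵥ (A *ᵥ v - A *ᵥ g1))) with hk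
  by_cases hk0 : k = 0
  · rw [hk0, zero_smul] at key
    have hv : v ≠ 0 := fun h => by rw [h, dotProduct_zero] at h1; exact zero_ne_one h1
    exact smul_ne_zero hl0 hv key.symm
  · apply heig (k⁻¹ * l)
    rw [← smul_smul, ← key, smul_smul, inv_mul_cancel₀ hk0, one_smul]

theorem J3_lemma (N : Matrix (Fin 3) (Fin 3) K) (hN : N.det = 0) (h1N : (1 + N).det = 1)
    (hr : ¬ Rank1 N) (v : Fin 3 → K) (hd : N *ᵥ v ≠ 0)
    (hker : ∀ u, N *ᵥ u = 0 → ∃ a : K, u = a • (N *ᵥ v))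
    (him : ∀ g, N *ᵥ g ≠ v) : False := by
  classical
  obtain ⟨u, hu, hNu⟩ := exists_mulVec_eq_zero_iff.2 hN
  obtain ⟨a, ha⟩ := hker u hNu
  have hNd : N *ᵥ (N *ᵥ v) = 0 := by
    rw [ha, mulVec_smul] at hNu
    rcases smul_eq_zero.1 hNu with h | h
    · exact absurd (by rw [ha, h, zero_smul]) hu
    · exact h
  let c2 : K := N 0 0 * N 1 1 - N 0 1 * N 1 0 + (N 0 0 * N 2 2 - N 0 2 * N 2 0)
    + (N 1 1 * N 2 2 - N 1 2 * N 2 1)
  let t : K := N 0 0 + N 1 1 + N 2 2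
  have CH : N * N * N = t • (N * N) - c2 • N + N.det • (1 : Matrix (Fin 3) (Fin 3) K) := by
    ext i j
    fin_cases i <;> fin_cases j <;>
      simp [t, c2, Matrix.mul_apply, Fin.sum_univ_three, Matrix.det_fin_three] <;> ring
  have hsum : 1 + t + c2 + N.det = 1 := by
    refine Eq.trans ?_ h1N
    simp [t, c2, Matrix.det_fin_three]
    ring
  have hc2 : c2 = 0 := by
    have := congrArg (fun M => M *ᵥ v) CH
    simp only [← mulVec_mulVec, hNd, mulVec_zero, hN, zero_smul, add_zero, sub_mulVec,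
      smul_mulVec, smul_zero, zero_sub] at this
    exact (smul_eq_zero.1 (neg_eq_zero.1 this.symm)).resolve_right hd
  have ht : t = 0 := by rw [hc2, hN] at hsum; linear_combination hsum
  rw [hc2, ht, hN] at CH
  simp only [zero_smul, sub_zero, add_zero] at CH
  have hN2 : ∃ g, N *ᵥ (N *ᵥ g) ≠ 0 := by
    by_contra h
    push Not at h
    obtain ⟨z, hz⟩ := exists_mulVec_notMul hr (N *ᵥ v)
    obtain ⟨b, hb⟩ := hker _ (h z)
    exact hz b hb
  obtain ⟨g, hg⟩ := hN2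
  have hN3 : N *ᵥ (N *ᵥ (N *ᵥ g)) = 0 := by
    rw [mulVec_mulVec, mulVec_mulVec, CH, zero_mulVec]
  let R : Matrix (Fin 3) (Fin 3) K := Matrix.of fun i j =>
    (![g, N *ᵥ g, N *ᵥ (N *ᵥ g)] j) i
  have hR : ∀ a : Fin 3 → K, R *ᵥ a = a 0 • g + a 1 • (N *ᵥ g) + a 2 • (N *ᵥ (N *ᵥ g)) := by
    intro a; funext i
    simp [R, Matrix.mulVec, dotProduct, Fin.sum_univ_three, mul_comm]
  have hdet : R.det ≠ 0 := by
    intro h0
    obtain ⟨a, ha, hRa⟩ := exists_mulVec_eq_zero_iff.2 h0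
    rw [hR] at hRa
    have a0 : a 0 = 0 := by
      have := congrArg (fun w => N *ᵥ (N *ᵥ w)) hRa
      simp only [mulVec_add, mulVec_smul, hN3, mulVec_zero, smul_zero, add_zero] at this
      exact (smul_eq_zero.1 this).resolve_right hg
    rw [a0, zero_smul, zero_add] at hRa
    have a1 : a 1 = 0 := by
      have := congrArg (fun w => N *ᵥ w) hRa
      simp only [mulVec_add, mulVec_smul, hN3, mulVec_zero, smul_zero, add_zero] at this
      exact (smul_eq_zero.1 this).resolve_right hg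
    rw [a1, zero_smul, zero_add] at hRa
    have a2 : a 2 = 0 := (smul_eq_zero.1 hRa).resolve_right hg
    apply ha
    funext i; fin_cases i <;> assumption
  obtain ⟨a', ha'⟩ : ∃ a, R *ᵥ a = v :=
    ⟨R⁻¹ *ᵥ v, by rw [mulVec_mulVec, mul_nonsing_inv R (isUnit_iff_ne_zero.2 hdet), one_mulVec]⟩
  rw [hR] at ha'
  have a0 : a' 0 = 0 := by
    have := congrArg (fun w => N *ᵥ (N *ᵥ w)) ha'
    simp only [mulVec_add, mulVec_smul, hN3, mulVec_zero, smul_zero, add_zero, hNd] at this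
    exact (smul_eq_zero.1 this).resolve_right hg
  apply him (a' 1 • g + a' 2 • (N *ᵥ g))
  rw [← ha', a0, zero_smul, zero_add, mulVec_add, mulVec_smul, mulVec_smul]

theorem rank1_of_two {N : Matrix (Fin 2) (Fin 2) K} (hN : N.det = 0) : Rank1 N := by
  classical
  obtain ⟨l, hl, hlN⟩ := exists_vecMul_eq_zero_iff.2 hN
  by_contra hr
  obtain ⟨z, hz⟩ := exists_mulVec_notMul hr ![-(l 1), l 0]
  have h0 : l 0 * (N *ᵥ z) 0 + l 1 * (N *ᵥ z) 1 = 0 := by
    have : l ⬝ᵥ (N *ᵥ z) = 0 := by rw [dotProduct_mulVec, hlN, zero_dotProduct]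
    simpa [dotProduct, Fin.sum_univ_two] using this
  by_cases hl0 : l 0 = 0
  · have hl1 : l 1 ≠ 0 := fun h => hl (by funext i; fin_cases i <;> assumption)
    have : (N *ᵥ z) 1 = 0 := by
      rw [hl0, zero_mul, zero_add] at h0
      exact (mul_eq_zero.1 h0).resolve_left hl1
    apply hz (-((N *ᵥ z) 0) / l 1)
    funext i; fin_cases i
    · simp [hl1]
    · simp [this, hl0]
  · apply hz ((N *ᵥ z) 1 / l 0)
    funext i; fin_cases i
    · show (N *ᵥ z) 0 = (N *ᵥ z) 1 / l 0 * (-(l 1))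
      rw [div_mul_eq_mul_div, eq_div_iff hl0]
      linear_combination h0
    · simp [hl0]

/-- the data produced by the choice -/
structure Sel {n : ℕ} (A : Matrix (Fin n) (Fin n) K) (x y : Fin n → K) where
  v : Fin n → K
  φ : Fin n → K
  φv : φ ⬝ᵥ v = 1
  φd : φ ⬝ᵥ ((A - 1) *ᵥ v) = 0
  φx : φ ⬝ᵥ x ≠ 0
  yv : y ⬝ᵥ v ≠ 0
  eig : ∀ l : K, A *ᵥ v ≠ l • v
  z : Fin n → K
  φz : φ ⬝ᵥ ((A - 1) *ᵥ z) ≠ 0
  inv3 : (A - 1).det ≠ 0 → n = 3 → φ ⬝ᵥ ((A - 1)⁻¹ *ᵥ v + v) ≠ 0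
  sing : (A - 1).det = 0 → 3 ≤ n ∧ (∀ g, (A - 1) *ᵥ g ≠ v) ∧
    ((∃ u, (A - 1) *ᵥ u = 0 ∧ φ ⬝ᵥ u ≠ 0) ∨
      (4 ≤ n ∧ ∀ u, (A - 1) *ᵥ u = 0 → ∃ s : K, u = s • ((A - 1) *ᵥ v)))
  bad : (4 ≤ n ∨ (n = 3 ∧ (2 : K) ≠ 0)) → ¬ Bad A v φ

set_option maxHeartbeats 1000000 in
theorem exists_sel {n : ℕ} (hK : Big K) (hn : 2 ≤ n) (A : Matrix (Fin n) (Fin n) K)
    (hdet : A.det = 1) (hA : Good A) (x y : Fin n → K) (hx : x ≠ 0) (hy : y ≠ 0) :
    Nonempty (Sel A x y) := by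
  classical
  obtain ⟨hsc, hr⟩ := hA
  set N := A - 1 with hN
  have hAN : ∀ w, A *ᵥ w = w + N *ᵥ w := by
    intro w; rw [hN, sub_mulVec, one_mulVec]; abel
  have hAu : IsUnit A.det := by rw [hdet]; exact isUnit_one
  obtain ⟨z0, hz0⟩ := exists_mulVec_notMul hr x
  obtain ⟨ζ, hζx, hζz⟩ := exists_kill hx hz0
  let f1 : Fin n → K := ζ ᵥ* N
  have hf1 : f1 ≠ 0 := fun h => hζz (by rw [dotProduct_mulVec]; show f1 ⬝ᵥ z0 = 0; rw [h, zero_dotProduct])
  have hsing3 : N.det = 0 → 3 ≤ n := by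
    intro h
    by_contra hlt
    obtain rfl : n = 2 := by omega
    exact hr (rank1_of_two h)
  -- the vector
  obtain ⟨v, hyv, hf1v, heig, hP, hl⟩ : ∃ v : Fin n → K, y ⬝ᵥ v ≠ 0 ∧ f1 ⬝ᵥ v ≠ 0 ∧
      (∀ l : K, A *ᵥ v ≠ l • v) ∧
      (N.det ≠ 0 → n = 3 → ∀ l : K, (A⁻¹ * (N * N)) *ᵥ v ≠ l • v) ∧
      (N.det = 0 → ∀ g, N *ᵥ g ≠ v) := by
    by_cases hN0 : N.det = 0
    · obtain ⟨l, hl, hlN⟩ := exists_vecMul_eq_zero_iff.2 hN0
      obtain ⟨z, hz, hzz⟩ := exists_ker (k := 2) (by have := hsing3 hN0; omega) ![y, l]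
      obtain ⟨v, a, b, c, e⟩ := exists_noneigen hK A hsc y l f1 hy hl hf1 z hz (hzz 0) (hzz 1)
      refine ⟨v, a, c, e, fun h => absurd hN0 h, fun _ g hg => b ?_⟩
      rw [← hg, dotProduct_mulVec, hlN, zero_dotProduct]
    · obtain ⟨z, hz, hzz⟩ := exists_ker (k := 1) (by omega) ![y]
      by_cases h3 : n = 3
      · subst h3
        have hPs : ∀ c : K, A⁻¹ * (N * N) ≠ c • (1 : Matrix (Fin 3) (Fin 3) K) := by
          intro s hs
          have hNN : N * N = s • (1 + N) := by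
            have := congrArg (fun M => A * M) hs
            simp only [← mul_assoc, mul_nonsing_inv A hAu, one_mul, Matrix.mul_smul, mul_one] at this
            rw [this, hN, add_sub_cancel]
          let c2 : K := N 0 0 * N 1 1 - N 0 1 * N 1 0 + (N 0 0 * N 2 2 - N 0 2 * N 2 0)
            + (N 1 1 * N 2 2 - N 1 2 * N 2 1)
          let t : K := N 0 0 + N 1 1 + N 2 2
          have CH : N * N * N = t • (N * N) - c2 • N + N.det • (1 : Matrix (Fin 3) (Fin 3) K) := by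
            ext i j
            fin_cases i <;> fin_cases j <;>
              simp [t, c2, Matrix.mul_apply, Fin.sum_univ_three, Matrix.det_fin_three] <;> ring
          have hsum : 1 + t + c2 + N.det = 1 := by
            have : (1 + N).det = 1 := by rw [hN, add_sub_cancel]; exact hdet
            refine Eq.trans ?_ this
            simp [t, c2, Matrix.det_fin_three]
            ring
          have e : (s ^ 2 + s - t * s + c2) • N = (t * s - s ^ 2 + N.det) • (1 : Matrix (Fin 3) (Fin 3) K) := by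
            have h3' : N * N * N = s • N + s • (s • (1 + N)) := by
              rw [hNN, smul_mul_assoc, add_mul, one_mul, hNN, smul_add]
            rw [CH, hNN] at h3'
            ext i j
            have := congrFun (congrFun h3' i) j
            simp only [Matrix.sub_apply, Matrix.add_apply, Matrix.smul_apply, smul_eq_mul] at this ⊢
            linear_combination -this
          by_cases hc0 : s ^ 2 + s - t * s + c2 = 0
          · rw [hc0, zero_smul] at e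
            have h1 : t * s - s ^ 2 + N.det = 0 := by
              have := congrFun (congrFun e 0) 0
              simpa using this.symm
            have : t = s := by linear_combination hsum - hc0 - h1
            apply hN0
            rw [this] at h1
            linear_combination h1
          · apply hsc (1 + (t * s - s ^ 2 + N.det) / (s ^ 2 + s - t * s + c2))
            have hN' : N = ((t * s - s ^ 2 + N.det) / (s ^ 2 + s - t * s + c2)) •
                (1 : Matrix (Fin 3) (Fin 3) K) := by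
              rw [div_eq_inv_mul, ← smul_smul, ← e, smul_smul, inv_mul_cancel₀ hc0, one_smul]
            rw [add_smul, one_smul, ← hN', hN, add_sub_cancel]
        obtain ⟨v, a, -, c, e⟩ := exists_noneigen hK _ hPs y y f1 hy hy hf1 z hz (hzz 0) (hzz 0)
        refine ⟨v, a, c, fun l hl => ?_, fun _ _ => e, fun h => absurd h hN0⟩
        have hl0 : l ≠ 0 := by
          rintro rfl
          rw [zero_smul] at hl
          apply a
          have : v = 0 := by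
            have := congrArg (fun w => A⁻¹ *ᵥ w) hl
            simpa [mulVec_mulVec, nonsing_inv_mul A hAu] using this
          rw [this, dotProduct_zero]
        have hinv : A⁻¹ *ᵥ v = l⁻¹ • v := by
          have := congrArg (fun w => A⁻¹ *ᵥ w) hl
          simp only [mulVec_mulVec, nonsing_inv_mul A hAu, one_mulVec, mulVec_smul] at this
          calc A⁻¹ *ᵥ v = l⁻¹ • l • (A⁻¹ *ᵥ v) := by rw [smul_smul, inv_mul_cancel₀ hl0, one_smul]
            _ = l⁻¹ • v := by rw [← this]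
        have hNv : N *ᵥ v = (l - 1) • v := by rw [hN, sub_mulVec, one_mulVec, hl, sub_smul, one_smul]
        apply e ((l - 1) * ((l - 1) * l⁻¹))
        rw [← mulVec_mulVec, ← mulVec_mulVec, hNv, mulVec_smul, mulVec_smul, hNv, mulVec_smul,
          hinv, smul_smul, smul_smul, mul_assoc]
      · obtain ⟨v, a, -, c, e⟩ := exists_noneigen hK A hsc y y f1 hy hy hf1 z hz (hzz 0) (hzz 0)
        exact ⟨v, a, c, e, fun _ h => absurd h h3, fun h => absurd h hN0⟩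
  let d : Fin n → K := N *ᵥ v
  have hd : d ≠ 0 := by
    intro h
    apply heig 1
    rw [hAN, show N *ᵥ v = 0 from h, add_zero, one_smul]
  have hvd : ∀ c : K, v ≠ c • d := by
    intro c hc
    by_cases hc0 : c = 0
    · apply hyv; rw [hc, hc0, zero_smul, dotProduct_zero]
    · apply heig (1 + c⁻¹)
      rw [hAN, show N *ᵥ v = d from rfl, add_smul, one_smul]
      congr 1
      conv_rhs => rw [hc]
      rw [smul_smul, inv_mul_cancel₀ hc0, one_smul]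
  have hxd : ∀ c : K, x ≠ c • d := by
    intro c hc
    by_cases hc0 : c = 0
    · exact hx (by rw [hc, hc0, zero_smul])
    · apply hf1v
      show (ζ ᵥ* N) ⬝ᵥ v = 0
      rw [← dotProduct_mulVec]
      have : N *ᵥ v = c⁻¹ • x := by rw [hc, smul_smul, inv_mul_cancel₀ hc0, one_smul]
      rw [this, dotProduct_smul, hζx, smul_zero]
  obtain ⟨zz, hzz⟩ := exists_mulVec_notMul hr d
  -- the extra vector
  obtain ⟨z3, hz3, hinv3, hsingu⟩ : ∃ z3 : Fin n → K, (∀ c : K, z3 ≠ c • d) ∧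
      (N.det ≠ 0 → n = 3 → z3 = N⁻¹ *ᵥ v + v) ∧
      (N.det = 0 → (N *ᵥ z3 = 0) ∨ (4 ≤ n ∧ ∀ u, N *ᵥ u = 0 → ∃ s : K, u = s • d)) := by
    by_cases hN0 : N.det = 0
    · by_cases hu : ∃ u, N *ᵥ u = 0 ∧ ∀ c : K, u ≠ c • d
      · obtain ⟨u, hu1, hu2⟩ := hu
        exact ⟨u, hu2, fun h => absurd hN0 h, fun _ => Or.inl hu1⟩
      · push Not at hu
        refine ⟨v, hvd, fun h => absurd hN0 h, fun _ => Or.inr ⟨?_, hu⟩⟩
        by_contra h4
        obtain rfl : n = 3 := by have := hsing3 hN0; omega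
        exact J3_lemma N hN0 (by rw [hN, add_sub_cancel]; exact hdet) hr v hd hu (hl hN0)
    · by_cases h3 : n = 3
      · refine ⟨N⁻¹ *ᵥ v + v, fun c hc => ?_, fun _ _ => rfl, fun h => absurd h hN0⟩
        have e := congrArg (fun w => N *ᵥ w) hc
        simp only [mulVec_add, mulVec_mulVec, mul_nonsing_inv N (isUnit_iff_ne_zero.2 hN0),
          one_mulVec, mulVec_smul, d] at e
        rw [← hAN] at e
        by_cases hc0 : c = 0
        · apply heig 0; rw [e, hc0, zero_smul, zero_smul]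
        · apply hP hN0 h3 c⁻¹
          have e' := congrArg (fun w => A⁻¹ *ᵥ w) e
          simp only [mulVec_mulVec, nonsing_inv_mul A hAu, one_mulVec, mulVec_smul] at e'
          conv_rhs => rw [e']
          rw [smul_smul, inv_mul_cancel₀ hc0, one_smul]
      · exact ⟨v, hvd, fun _ h => absurd h h3, fun h => absurd h hN0⟩
  -- the functional
  let Ψ : Submodule K (Fin n → K) :=
    { carrier := {p | p ⬝ᵥ d = 0}
      add_mem' := fun {a b} ha hb => by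
        show (a + b) ⬝ᵥ d = 0
        rw [add_dotProduct, show a ⬝ᵥ d = 0 from ha, show b ⬝ᵥ d = 0 from hb, add_zero]
      zero_mem' := zero_dotProduct d
      smul_mem' := fun c a ha => by
        show (c • a) ⬝ᵥ d = 0
        rw [smul_dotProduct, show a ⬝ᵥ d = 0 from ha, smul_zero] }
  have hex : ∀ w : Fin n → K, (∀ c : K, w ≠ c • d) → ∃ p ∈ Ψ, p ⬝ᵥ w ≠ 0 := fun w hw => by
    obtain ⟨p, a, b⟩ := exists_kill hd hw
    exact ⟨p, a, b⟩
  have h4z : ∀ i : Fin 4, ∃ p ∈ Ψ, p ⬝ᵥ (![v, x, N *ᵥ zz, z3] i) ≠ 0 := by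
    intro i; apply hex; fin_cases i <;> assumption
  have norm : ∀ p ∈ Ψ, p ⬝ᵥ v ≠ 0 → ((p ⬝ᵥ v)⁻¹ • p) ⬝ᵥ v = 1 ∧
      ((p ⬝ᵥ v)⁻¹ • p) ⬝ᵥ d = 0 := fun p hp hpv =>
    ⟨by rw [smul_dotProduct, smul_eq_mul, inv_mul_cancel₀ hpv],
      by rw [smul_dotProduct, show p ⬝ᵥ d = 0 from hp, smul_zero]⟩
  obtain ⟨φ, hφv, hφd, hφx, hφz, hφ3, hφb⟩ : ∃ φ : Fin n → K, φ ⬝ᵥ v = 1 ∧ φ ⬝ᵥ d = 0 ∧
      φ ⬝ᵥ x ≠ 0 ∧ φ ⬝ᵥ (N *ᵥ zz) ≠ 0 ∧ φ ⬝ᵥ z3 ≠ 0 ∧
      ((4 ≤ n ∨ (n = 3 ∧ (2 : K) ≠ 0)) → ¬ Bad A v φ) := by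
    have hAv : ∀ φ : Fin n → K, φ ⬝ᵥ v = 1 → φ ⬝ᵥ d = 0 → φ ⬝ᵥ (A *ᵥ v) = 1 := fun φ a b => by
      rw [hAN, dotProduct_add, a, show φ ⬝ᵥ (N *ᵥ v) = 0 from b, add_zero]
    obtain ⟨p, hp, hpz⟩ := avoid_dot 4 hK Ψ (le_refl 4) _ h4z
    obtain ⟨φ₀, hφ₀⟩ : ∃ q : Fin n → K, q = (p ⬝ᵥ v)⁻¹ • p := ⟨_, rfl⟩
    have hpv : p ⬝ᵥ v ≠ 0 := hpz 0
    obtain ⟨a, b⟩ : φ₀ ⬝ᵥ v = 1 ∧ φ₀ ⬝ᵥ d = 0 := hφ₀ ▸ norm p hp hpv
    have sc : ∀ w, p ⬝ᵥ w ≠ 0 → φ₀ ⬝ᵥ w ≠ 0 := fun w hw => by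
      rw [hφ₀, smul_dotProduct]; exact smul_ne_zero (inv_ne_zero hpv) hw
    have a1 := sc _ (hpz 1)
    have a2 := sc _ (hpz 2)
    have a3 := sc _ (hpz 3)
    by_cases hcase : (4 ≤ n ∨ (n = 3 ∧ (2 : K) ≠ 0)) ∧ Bad A v φ₀
    swap
    · exact ⟨φ₀, a, b, a1, a2, a3, fun h hb => hcase ⟨h, hb⟩⟩
    obtain ⟨hc, hbad⟩ := hcase
    rcases hc with h4 | ⟨h3, h2⟩
    · obtain ⟨w, hw0, hw⟩ := exists_ker (k := 3) (by omega) ![v, d, x]
      obtain ⟨t, ht⟩ := hK {0, -(φ₀ ⬝ᵥ (N *ᵥ zz)) / (w ⬝ᵥ (N *ᵥ zz)),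
        -(φ₀ ⬝ᵥ z3) / (w ⬝ᵥ z3)} (lt_of_le_of_lt Finset.card_le_three (by norm_num))
      simp only [Finset.mem_insert, Finset.mem_singleton, not_or] at ht
      have shift : ∀ u : Fin n → K, φ₀ ⬝ᵥ u ≠ 0 → t ≠ -(φ₀ ⬝ᵥ u) / (w ⬝ᵥ u) →
          (φ₀ + t • w) ⬝ᵥ u ≠ 0 := by
        intro u hu htu h0
        rw [add_dotProduct, smul_dotProduct, smul_eq_mul] at h0
        by_cases hwu : w ⬝ᵥ u = 0
        · rw [hwu, mul_zero, add_zero] at h0; exact hu h0
        · exact htu (by rw [eq_div_iff hwu]; linear_combination h0)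
      have c0 : (φ₀ + t • w) ⬝ᵥ v = 1 := by
        rw [add_dotProduct, smul_dotProduct, dotProduct_comm w, show v ⬝ᵥ w = 0 from hw 0,
          smul_zero, add_zero, a]
      have c1 : (φ₀ + t • w) ⬝ᵥ d = 0 := by
        rw [add_dotProduct, smul_dotProduct, dotProduct_comm w, show d ⬝ᵥ w = 0 from hw 1,
          smul_zero, add_zero, b]
      refine ⟨φ₀ + t • w, c0, c1, ?_, shift _ a2 ht.2.1, shift _ a3 ht.2.2, fun _ hb => ?_⟩
      · rw [add_dotProduct, smul_dotProduct, dotProduct_comm w, show x ⬝ᵥ w = 0 from hw 2,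
          smul_zero, add_zero]
        exact a1
      · have := bad_unique (by omega) A v φ₀ _ heig a (hAv _ a b) c0 hbad hb
        exact smul_ne_zero ht.1 hw0 (left_eq_add.1 this)
    · subst h3
      obtain ⟨j, hj⟩ := Function.ne_iff.1 hd
      obtain ⟨w, hw0, hw⟩ := exists_ker (k := 2) (by omega) ![φ₀, Pi.single j 1]
      have hwd : ∀ c : K, w ≠ c • d := by
        intro c hc
        have := hw 1
        simp [hc, single_dotProduct] at this
        rcases this with h | h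
        · exact hw0 (by rw [hc, h, zero_smul])
        · exact hj h
      obtain ⟨p', hp', hpz'⟩ := avoid_dot 5 (big_five hK h2) Ψ (le_refl 5)
        ![v, x, N *ᵥ zz, z3, w] (fun i => by apply hex; fin_cases i <;> assumption)
      have hpv' : p' ⬝ᵥ v ≠ 0 := hpz' 0
      obtain ⟨a', b'⟩ := norm p' hp' hpv'
      have sc' : ∀ u, p' ⬝ᵥ u ≠ 0 → ((p' ⬝ᵥ v)⁻¹ • p') ⬝ᵥ u ≠ 0 := fun u hu => by
        rw [smul_dotProduct]; exact smul_ne_zero (inv_ne_zero hpv') hu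
      refine ⟨(p' ⬝ᵥ v)⁻¹ • p', a', b', sc' _ (hpz' 1), sc' _ (hpz' 2), sc' _ (hpz' 3),
        fun _ hb => ?_⟩
      have := bad_unique (le_refl 3) A v φ₀ _ heig a (hAv _ a b) a' hbad hb
      apply sc' _ (hpz' 4)
      rw [← this]
      exact hw 0
  exact ⟨{ v := v, φ := φ, φv := hφv, φd := hφd, φx := hφx, yv := hyv, eig := heig,
           z := zz, φz := hφz,
           inv3 := fun h h3 => by rw [← hinv3 h h3]; exact hφ3,
           sing := fun h => ⟨hsing3 h, hl h, (hsingu h).imp (fun hu => ⟨z3, hu, hφ3⟩) id⟩,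
           bad := hφb }⟩

end Cfsg.Agent.RegUnipProd
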