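import Cfsg.Agent.Lib.RegUnipProd.Recursion

/-! Every non-scalar matrix of determinant one is a product of two regular unipotents. -/

set_option autoImplicit false

open Matrix

namespace Cfsg.Agent.RegUnipProd

variable {K : Type*} [Field K]

def Conj {n : ℕ} (X Y : Matrix (Fin n) (Fin n) K) : Prop :=
  ∃ P Q : Matrix (Fin n) (Fin n) K, P * Q = 1 ∧ X = P * Y * Q

theorem Conj.trans {n : ℕ} {X Y Z : Matrix (Fin n) (Fin n) K} (h : Conj X Y) (h' : Conj Y Z) :
    Conj X Z := by
  obtain ⟨P, Q, h1, rfl⟩ := h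
  obtain ⟨P', Q', h1', rfl⟩ := h'
  exact ⟨P * P', Q' * Q, by rw [Matrix.mul_assoc, ← Matrix.mul_assoc P', h1', Matrix.one_mul, h1],
    by simp only [Matrix.mul_assoc]⟩

theorem Conj.symm {n : ℕ} {X Y : Matrix (Fin n) (Fin n) K} (h : Conj X Y) : Conj Y X := by
  obtain ⟨P, Q, h1, rfl⟩ := h
  have h2 := mul_eq_one_comm.1 h1
  exact ⟨Q, P, h2, by
    simp only [Matrix.mul_assoc]
    rw [h2, Matrix.mul_one, ← Matrix.mul_assoc, h2, Matrix.one_mul]⟩

variable (K) in
/-- the regular unipotent block -/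
def Jm (n : ℕ) : Matrix (Fin n) (Fin n) K :=
  Matrix.of fun i j => if i = j then 1 else if j.val = i.val + 1 then 1 else 0

theorem sum_shift {n : ℕ} (i : Fin (n + 1)) (f : Fin (n + 1) → K) :
    ∑ k, (if i = k then (1 : K) else if k.val = i.val + 1 then 1 else 0) * f k =
      f i + if h : i.val + 1 < n + 1 then f ⟨i.val + 1, h⟩ else 0 := by
  classical
  rw [← Finset.add_sum_erase _ _ (Finset.mem_univ i), if_pos rfl, one_mul]
  congr 1
  split_ifs with h
  · rw [Finset.sum_eq_single (⟨i.val + 1, h⟩ : Fin (n + 1))]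
    · simp [Fin.ext_iff]
    · intro b hb hne
      rw [Finset.mem_erase] at hb
      rw [if_neg (Ne.symm hb.1), if_neg (fun e => hne (Fin.ext e)), zero_mul]
    · intro hmem
      exfalso; apply hmem
      simp [Fin.ext_iff]
  · apply Finset.sum_eq_zero
    intro b hb
    rw [Finset.mem_erase] at hb
    rw [if_neg (Ne.symm hb.1), if_neg (by have := b.isLt; omega), zero_mul]

theorem conj_upper {n : ℕ} (U : Matrix (Fin (n + 1)) (Fin (n + 1)) K) (hU : RegUpper U) :
    Conj U (Jm K (n + 1)) := by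
  classical
  obtain ⟨h1, h2, h3⟩ := hU
  let N := U - 1
  have hN0 : ∀ i j : Fin (n + 1), j ≤ i → N i j = 0 := by
    intro i j h
    rcases eq_or_lt_of_le h with rfl | h'
    · simp [N, h2]
    · simp [N, h1 i j h', Matrix.one_apply_ne h'.ne']
  let w : ℕ → Fin (n + 1) → K := fun k => (N ^ k) *ᵥ Pi.single (Fin.last n) 1
  have hw : ∀ k, w (k + 1) = N *ᵥ w k := fun k => by
    simp only [w, pow_succ', ← mulVec_mulVec]
  have key : ∀ k, k ≤ n → (∀ i : Fin (n + 1), n - k < i.val → w k i = 0) ∧
      ∀ i : Fin (n + 1), i.val = n - k → w k i ≠ 0 := by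
    intro k
    induction k with
    | zero =>
      intro _
      refine ⟨fun i h => absurd h (by have := i.isLt; omega), fun i h => ?_⟩
      have : i = Fin.last n := Fin.ext (by simpa using h)
      simp [w, this]
    | succ k ih =>
      intro hk
      obtain ⟨hz, hnz⟩ := ih (by omega)
      rw [hw]
      have term : ∀ i j : Fin (n + 1), n - (k + 1) ≤ i.val → j.val ≠ n - k ∨ n - (k+1) < i.val →
          N i j * w k j = 0 := by
        intro i j hi hj
        by_cases hji : j ≤ i
        · rw [hN0 i j hji, zero_mul]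
        · rw [hz j (by rw [Fin.le_def] at hji; omega), mul_zero]
      refine ⟨fun i h => ?_, fun i h => ?_⟩
      · show (∑ l, N i l * w k l) = 0
        exact Finset.sum_eq_zero fun j _ => term i j (by omega) (Or.inr h)
      let j : Fin (n + 1) := ⟨n - k, by omega⟩
      show (∑ l, N i l * w k l) ≠ 0
      rw [Finset.sum_eq_single j (fun b _ hb => term i b (by omega)
        (Or.inl fun e => hb (Fin.ext e))) (fun hh => absurd (Finset.mem_univ j) hh)]
      have hij : j.val = i.val + 1 := by show n - k = _; omega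
      refine mul_ne_zero ?_ (hnz j rfl)
      have hne : i ≠ j := fun e => by rw [← e] at hij; omega
      simpa [N, Matrix.one_apply_ne hne] using h3 i j hij
  let P : Matrix (Fin (n + 1)) (Fin (n + 1)) K := Matrix.of fun i j => w (n - j.val) i
  have hdet : P.det ≠ 0 := by
    have htri : ∀ i j : Fin (n + 1), j < i → P i j = 0 := fun i j h =>
      (key (n - j.val) (by omega)).1 i (by rw [Fin.lt_def] at h; omega)
    rw [Matrix.det_of_upperTriangular htri]
    exact Finset.prod_ne_zero_iff.2 fun i _ => (key (n - i.val) (by omega)).2 i (by have := i.isLt; omega)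
  have hlast : w (n + 1) = 0 := by
    rw [hw]
    funext i
    show (∑ l, N i l * w n l) = 0
    apply Finset.sum_eq_zero
    intro j _
    by_cases hj : j.val = 0
    · have : N i j = 0 := hN0 i j (by rw [Fin.le_def]; omega)
      show N i j * w n j = 0
      rw [this, zero_mul]
    · show N i j * w n j = 0
      rw [(key n le_rfl).1 j (by omega), mul_zero]
  have hUP : U * P = P * Jm K (n + 1) := by
    have hU' : U = 1 + N := by simp [N]
    ext i j
    have l : (U * P) i j = w (n - j.val) i + w (n - j.val + 1) i := by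
      rw [hU', Matrix.add_mul, Matrix.one_mul, Matrix.add_apply, hw]
      rfl
    rw [l]
    have r : (P * Jm K (n + 1)) i j = w (n - j.val) i +
        if j.val = 0 then 0 else w (n - (j.val - 1)) i := by
      rw [Matrix.mul_apply, ← Finset.add_sum_erase _ _ (Finset.mem_univ j)]
      congr 1
      · simp [P, Jm]
      split_ifs with h
      · apply Finset.sum_eq_zero
        intro b hb
        rw [Finset.mem_erase] at hb
        simp [Jm, hb.1, h]
      · rw [Finset.sum_eq_single (⟨j.val - 1, by omega⟩ : Fin (n + 1))]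
        · have : (j.val = j.val - 1 + 1) := by omega
          simp [P, Jm, Fin.ext_iff, ← this, show ¬ (j.val - 1 = j.val) by omega]
        · intro b hb hne
          rw [Finset.mem_erase] at hb
          have : ¬ j.val = b.val + 1 := fun e => hne (Fin.ext (by simp only; omega))
          simp [Jm, hb.1, this]
        · intro hmem
          exfalso; apply hmem
          simp [Fin.ext_iff]; omega
    rw [r]
    congr 1
    split_ifs with h
    · rw [h, Nat.sub_zero, hlast]; rfl
    · rw [show n - (j.val - 1) = n - j.val + 1 by have := j.isLt; omega]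
  have hu : IsUnit P.det := isUnit_iff_ne_zero.2 hdet
  exact ⟨P, P⁻¹, mul_nonsing_inv P hu, by rw [← hUP, Matrix.mul_assoc, mul_nonsing_inv P hu, Matrix.mul_one]⟩

theorem conj_lower {n : ℕ} (L : Matrix (Fin (n + 1)) (Fin (n + 1)) K) (hL : RegLower L) :
    Conj L (Jm K (n + 1)) := by
  classical
  obtain ⟨P, Q, hPQ, h⟩ := conj_upper Lᵀ hL
  have h' : L = Qᵀ * (Jm K (n + 1))ᵀ * Pᵀ := by
    have := congrArg Matrix.transpose h
    rw [transpose_transpose] at this
    rw [this, transpose_mul, transpose_mul, Matrix.mul_assoc]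
  let E : Matrix (Fin (n + 1)) (Fin (n + 1)) K := Matrix.of fun i j => if j = i.rev then 1 else 0
  have hE : ∀ M : Matrix (Fin (n + 1)) (Fin (n + 1)) K, ∀ i j, (E * M * E) i j = M i.rev j.rev := by
    intro M i j
    have hl : ∀ k, (E * M) i k = M i.rev k := fun k => by simp [E, Matrix.mul_apply]
    rw [Matrix.mul_apply]
    simp only [hl]
    have : ∀ k : Fin (n + 1), (j = k.rev) ↔ (k = j.rev) := fun k =>
      ⟨fun e => by rw [e, Fin.rev_rev], fun e => by rw [e, Fin.rev_rev]⟩
    simp [E, this]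
  have hEE : E * E = 1 := by
    have := hE 1
    ext i j
    have := this i j
    rw [Matrix.mul_one] at this
    rw [this]
    simp [Matrix.one_apply]
  have hJT : (Jm K (n + 1))ᵀ = E * Jm K (n + 1) * E := by
    ext i j
    rw [hE]
    show Jm K (n + 1) j i = _
    simp only [Jm, Matrix.of_apply, Fin.rev_inj, Fin.val_rev]
    by_cases hij : j = i
    · rw [if_pos hij, if_pos hij.symm]
    · rw [if_neg hij, if_neg (Ne.symm hij)]
      have h1 := i.isLt
      have h2 := j.isLt
      congr 1
      apply propext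
      omega
  refine Conj.trans (Y := (Jm K (n + 1))ᵀ) ⟨Qᵀ, Pᵀ, ?_, h'⟩ ⟨E, E, hEE, hJT⟩
  rw [← transpose_mul, hPQ, transpose_one]

theorem transvection_normal {m : ℕ} (p q : Fin (m + 2) → K) (hp : p ≠ 0) (hq : q ≠ 0)
    (hqp : q ⬝ᵥ p = 0) :
    Conj (1 + vecMulVec p q)
      (1 + vecMulVec (Pi.single (Fin.succ (0 : Fin (m + 1))) 1) (Pi.single 0 1)) := by
  classical
  obtain ⟨w0, hw0⟩ := exists_dot_ne_zero hq
  rw [dotProduct_comm] at hw0
  obtain ⟨S, R, hSR, hRS, -, hRe, hS0⟩ :=
    exists_change ((q ⬝ᵥ w0)⁻¹ • w0) q (by rw [dotProduct_smul, smul_eq_mul, inv_mul_cancel₀ hw0])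
  obtain ⟨p', hp'⟩ : ∃ u : Fin (m + 1) → K, S *ᵥ p = Fin.cons 0 u := by
    refine ⟨Fin.tail (S *ᵥ p), ?_⟩
    have : (S *ᵥ p) 0 = 0 := by show S 0 ⬝ᵥ p = 0; rw [hS0, hqp]
    conv_lhs => rw [← Fin.cons_self_tail (S *ᵥ p), this]
  have hp'0 : p' ≠ 0 := by
    intro h
    apply hp
    have := congrArg (fun u => R *ᵥ u) hp'
    simp only [mulVec_mulVec, hRS, one_mulVec] at this
    rw [this, h]
    have : (Fin.cons 0 0 : Fin (m + 2) → K) = 0 := by
      funext i; refine Fin.cases ?_ ?_ i <;> simp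
    rw [this, mulVec_zero]
  obtain ⟨g0, hg0⟩ := exists_dot_ne_zero hp'0
  obtain ⟨S₁, R₁, g1, g2, hS1, -, -⟩ :=
    exists_change p' ((g0 ⬝ᵥ p')⁻¹ • g0) (by rw [smul_dotProduct, smul_eq_mul, inv_mul_cancel₀ hg0])
  let T := blk 1 0 0 S₁ * S
  let V := R * blk 1 0 0 R₁
  have hTV : T * V = 1 := by
    show blk 1 0 0 S₁ * S * (R * blk 1 0 0 R₁) = 1
    rw [Matrix.mul_assoc, ← Matrix.mul_assoc S, hSR, Matrix.one_mul, blk_mul]
    simp [g1, blk_one]
  have hTp : T *ᵥ p = Pi.single (Fin.succ (0 : Fin (m + 1))) 1 := by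
    show (blk 1 0 0 S₁ * S) *ᵥ p = _
    rw [← mulVec_mulVec, hp', blk_mulVec, hS1]
    funext i
    refine Fin.cases ?_ ?_ i
    · simp [(Fin.succ_ne_zero (0 : Fin (m + 1))).symm]
    · intro i
      rw [Fin.cons_succ, zero_smul, zero_add]
      simp only [Pi.single_apply, Fin.succ_inj]
  have hqV : q ᵥ* V = Pi.single 0 1 := by
    show q ᵥ* (R * blk 1 0 0 R₁) = _
    have : q ᵥ* R = Pi.single 0 1 := by
      rw [← hS0]
      funext j
      have := congrFun (congrFun hSR 0) j
      simpa [Matrix.vecMul, Matrix.mul_apply, dotProduct, Matrix.one_apply, Pi.single_apply, eq_comm] using this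
    rw [← vecMul_vecMul, this]
    funext j
    refine Fin.cases ?_ ?_ j <;> simp [Matrix.vecMul, Fin.succ_ne_zero]
  refine Conj.symm ⟨T, V, hTV, ?_⟩
  rw [Matrix.mul_add, Matrix.mul_one, Matrix.add_mul, hTV, mul_vecMulVec, vecMulVec_mul, hTp, hqV]

theorem main (hK : Big K) (m : ℕ) (A : Matrix (Fin (m + 3)) (Fin (m + 3)) K)
    (hsc : ∀ c : K, A ≠ c • (1 : Matrix (Fin (m + 3)) (Fin (m + 3)) K)) (hdet : A.det = 1) :
    ∃ X Y : Matrix (Fin (m + 3)) (Fin (m + 3)) K, A = X * Y ∧
      Conj X (Jm K (m + 3)) ∧ Conj Y (Jm K (m + 3)) := by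
  classical
  have pull : ∀ X Y P Q : Matrix (Fin (m + 3)) (Fin (m + 3)) K, P * Q = 1 → A = P * (X * Y) * Q →
      Conj X (Jm K (m + 3)) → Conj Y (Jm K (m + 3)) → ∃ X' Y' : Matrix (Fin (m + 3)) (Fin (m + 3)) K,
      A = X' * Y' ∧ Conj X' (Jm K (m + 3)) ∧ Conj Y' (Jm K (m + 3)) := by
    intro X Y P Q hPQ hA hX hY
    refine ⟨P * X * Q, P * Y * Q, ?_, Conj.trans ⟨P, Q, hPQ, rfl⟩ hX, Conj.trans ⟨P, Q, hPQ, rfl⟩ hY⟩
    rw [hA]
    calc P * (X * Y) * Q = P * X * (Q * P) * Y * Q := by
          rw [mul_eq_one_comm.1 hPQ, Matrix.mul_one]; simp only [Matrix.mul_assoc]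
      _ = P * X * Q * (P * Y * Q) := by simp only [Matrix.mul_assoc]
  by_cases hr : Rank1 (A - 1)
  · obtain ⟨p, q, hpq⟩ := hr
    have hA : A = 1 + vecMulVec p q := by rw [← hpq, add_sub_cancel]
    have hne : A - 1 ≠ 0 := fun h => hsc 1 (by rw [one_smul]; exact sub_eq_zero.1 h)
    have hp : p ≠ 0 := fun h => hne (by rw [hpq, h]; ext i j; simp [vecMulVec_apply])
    have hq : q ≠ 0 := fun h => hne (by rw [hpq, h]; ext i j; simp [vecMulVec_apply])
    have hqp : q ⬝ᵥ p = 0 := by
      rw [hA, vecMulVec_eq Unit, det_one_add_replicateCol_mul_replicateRow] at hdet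
      linear_combination hdet
    let e0 : Fin (m + 3) → K := Pi.single 0 1
    let e2 : Fin (m + 3) → K := Pi.single ⟨2, by omega⟩ 1
    have n0 : e0 ≠ 0 := fun h => by simpa [e0] using congrFun h 0
    have n2 : e2 ≠ 0 := fun h => by simpa [e2] using congrFun h ⟨2, by omega⟩
    have n20 : e2 ⬝ᵥ e0 = 0 := by
      simp [e2, e0, single_dotProduct, Fin.ext_iff]
    obtain ⟨P, Q, hPQ, hT⟩ :=
      (transvection_normal p q hp hq hqp).trans (transvection_normal e0 e2 n0 n2 n20).symm
    let M : Matrix (Fin (m + 3)) (Fin (m + 3)) K :=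
      Matrix.of fun i j => if i.val ≤ j.val then (-1) ^ (j.val - i.val) else 0
    have hJM : Jm K (m + 3) * M = 1 := by
      ext i j
      rw [Matrix.mul_apply]
      show (∑ k, (if i = k then (1 : K) else if k.val = i.val + 1 then 1 else 0) * M k j) = _
      rw [sum_shift i (fun k => M k j), Matrix.one_apply]
      have hi := i.isLt
      have hj := j.isLt
      simp only [M, Matrix.of_apply]
      rcases lt_trichotomy i.val j.val with h | h | h
      · rw [if_pos h.le, dif_pos (show i.val + 1 < m + 3 by omega),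
          if_pos (show i.val + 1 ≤ j.val by omega),
          if_neg (show i ≠ j from fun e => by rw [e] at h; omega),
          show j.val - i.val = (j.val - (i.val + 1)) + 1 by omega, pow_succ]
        ring
      · rw [if_pos h.le, if_pos (Fin.ext h), h, Nat.sub_self, pow_zero]
        split_ifs <;> simp_all
      · rw [if_neg (show ¬ i.val ≤ j.val by omega), if_neg (show i ≠ j from fun e => by rw [e] at h; omega)]
        split_ifs <;> simp_all <;> omega
    have hJ : RegUpper (Jm K (m + 3)) := by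
      refine ⟨fun i j h => ?_, fun i => ?_, fun i j h => ?_⟩
      · rw [Fin.lt_def] at h
        simp only [Jm, Matrix.of_apply]
        rw [if_neg (fun e => by rw [e] at h; omega), if_neg (by omega)]
      · simp [Jm]
      · simp only [Jm, Matrix.of_apply]
        rw [if_neg (fun e => by rw [e] at h; omega), if_pos h]
        exact one_ne_zero
    have hU2 : RegUpper (M + vecMulVec e0 e2) := by
      have hE02 : ∀ i j : Fin (m + 3), vecMulVec e0 e2 i j =
          if i.val = 0 ∧ j.val = 2 then (1 : K) else 0 := by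
        intro i j
        simp only [e0, e2, vecMulVec_apply, Pi.single_apply, Fin.ext_iff, Fin.val_zero]
        split_ifs <;> simp_all
      refine ⟨fun i j h => ?_, fun i => ?_, fun i j h => ?_⟩ <;>
        simp only [Matrix.add_apply, hE02, M, Matrix.of_apply]
      · rw [Fin.lt_def] at h
        rw [if_neg (show ¬ i.val ≤ j.val by omega), if_neg (by omega), add_zero]
      · rw [if_pos le_rfl, if_neg (by omega), add_zero, Nat.sub_self, pow_zero]
      · rw [if_pos (show i.val ≤ j.val by omega), if_neg (by omega), add_zero,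
          show j.val - i.val = 1 by omega, pow_one]
        exact neg_ne_zero.2 one_ne_zero
    have hJe : Jm K (m + 3) *ᵥ e0 = e0 := by
      funext i
      simp [e0, Jm, Pi.single_apply]

    refine pull (Jm K (m + 3)) (M + vecMulVec e0 e2) P Q hPQ ?_ (conj_upper _ hJ) (conj_upper _ hU2)
    rw [Matrix.mul_add, hJM, mul_vecMulVec, hJe, hA]
    exact hT
  · let e0 : Fin (m + 3) → K := Pi.single 0 1
    have n0 : e0 ≠ 0 := fun h => by simpa [e0] using congrFun h 0
    obtain ⟨S, R, L, U, hSR, hRS, hLU, hL, hU, -, -⟩ :=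
      lu_form hK (m + 1) A hdet ⟨hsc, hr⟩ e0 e0 n0 n0
    refine pull L U R S hRS ?_ (conj_lower _ hL) (conj_upper _ hU)
    rw [← hLU]
    simp only [Matrix.mul_assoc, hRS, Matrix.mul_one]
    rw [← Matrix.mul_assoc, hRS, Matrix.one_mul]

end Cfsg.Agent.RegUnipProd
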