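import Cfsg.Agent.Lib.RegUnipProd.Choice

/-! A good matrix is similar to (regular lower unitriangular)(regular upper unitriangular). -/

set_option autoImplicit false

open Matrix

namespace Cfsg.Agent.RegUnipProd

variable {K : Type*} [Field K]

def RegUpper {n : ℕ} (U : Matrix (Fin n) (Fin n) K) : Prop :=
  (∀ i j : Fin n, j < i → U i j = 0) ∧ (∀ i, U i i = 1) ∧
    ∀ i j : Fin n, j.val = i.val + 1 → U i j ≠ 0

def RegLower {n : ℕ} (L : Matrix (Fin n) (Fin n) K) : Prop := RegUpper Lᵀ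

theorem regUpper_one : RegUpper (1 : Matrix (Fin 1) (Fin 1) K) := by
  refine ⟨fun i j h => ?_, fun i => Matrix.one_apply_eq i, fun i j h => ?_⟩
  · exact absurd h (by omega)
  · omega

theorem regUpper_blk {m : ℕ} {b : Fin (m + 1) → K} {U : Matrix (Fin (m + 1)) (Fin (m + 1)) K}
    (hb : b 0 ≠ 0) (hU : RegUpper U) : RegUpper (blk 1 b 0 U) := by
  obtain ⟨h1, h2, h3⟩ := hU
  refine ⟨fun i => ?_, fun i => ?_, fun i => ?_⟩
  · refine Fin.cases ?_ ?_ i
    · intro j h; exact absurd h (Fin.not_lt_zero j)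
    · intro i j
      refine Fin.cases ?_ ?_ j
      · intro _; simp
      · intro j h; simpa using h1 i j (Fin.succ_lt_succ_iff.1 h)
  · refine Fin.cases ?_ ?_ i
    · simp
    · intro i; simpa using h2 i
  · refine Fin.cases ?_ ?_ i
    · intro j
      refine Fin.cases ?_ ?_ j
      · intro h; simp at h
      · intro j h
        have : j = 0 := Fin.ext (by simpa using h)
        rw [this, blk_zero_succ]
        exact hb
    · intro i j
      refine Fin.cases ?_ ?_ j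
      · intro h; simp at h
      · intro j h
        simpa using h3 i j (by simpa [Nat.succ_inj] using h)

theorem blk_transpose {m : ℕ} (a : K) (b c : Fin m → K) (W : Matrix (Fin m) (Fin m) K) :
    (blk a b c W)ᵀ = blk a c b Wᵀ := by
  ext i j
  refine Fin.cases ?_ ?_ i <;> refine Fin.cases ?_ ?_ j <;> simp

theorem regLower_blk {m : ℕ} {c : Fin (m + 1) → K} {L : Matrix (Fin (m + 1)) (Fin (m + 1)) K}
    (hc : c 0 ≠ 0) (hL : RegLower L) : RegLower (blk 1 0 c L) := by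
  show RegUpper (blk 1 0 c L)ᵀ
  rw [blk_transpose]
  exact regUpper_blk hc hL

/-- What a single step provides. -/
theorem step {m : ℕ} (hK : Big K) (A : Matrix (Fin (m + 2)) (Fin (m + 2)) K) (hdet : A.det = 1)
    (hA : Good A) (x y : Fin (m + 2) → K) (hx : x ≠ 0) (hy : y ≠ 0) :
    ∃ (S R : Matrix (Fin (m + 2)) (Fin (m + 2)) K) (b c : Fin (m + 1) → K)
      (A₁ : Matrix (Fin (m + 1)) (Fin (m + 1)) K),
      S * R = 1 ∧ R * S = 1 ∧ S * A * R = blk 1 b c (A₁ + vecMulVec c b) ∧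
      (S *ᵥ x) 0 ≠ 0 ∧ (y ᵥ* R) 0 ≠ 0 ∧ b ≠ 0 ∧ c ≠ 0 ∧ A₁.det = 1 ∧
      (1 ≤ m → Good A₁) := by
  classical
  obtain ⟨σ⟩ := exists_sel hK (by omega) A hdet hA x y hx hy
  obtain ⟨v, φ, hφv, hφd, hφx, hyv, heig, zz, hφz, hinv3, hsing, hbad⟩ := σ
  set N := A - 1 with hN
  have hAN : ∀ w, A *ᵥ w = w + N *ᵥ w := by
    intro w; rw [hN, sub_mulVec, one_mulVec]; abel
  have hφAv : φ ⬝ᵥ (A *ᵥ v) = 1 := by rw [hAN, dotProduct_add, hφv, hφd, add_zero]
  obtain ⟨S, R, hSR, hRS, hSv, hRe, hS0⟩ := exists_change v φ hφv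
  have hrow : ∀ w, (S *ᵥ w) 0 = φ ⬝ᵥ w := fun w => by
    show S 0 ⬝ᵥ w = _
    rw [hS0]
  have hback : ∀ w, R *ᵥ (S *ᵥ w) = w := fun w => by rw [mulVec_mulVec, hRS, one_mulVec]
  obtain ⟨A', hA'⟩ : ∃ M, M = S * A * R := ⟨_, rfl⟩
  obtain ⟨b, hb⟩ : ∃ b : Fin (m + 1) → K, b = fun j => A' 0 j.succ := ⟨_, rfl⟩
  obtain ⟨c, hc⟩ : ∃ c : Fin (m + 1) → K, c = fun i => A' i.succ 0 := ⟨_, rfl⟩
  obtain ⟨A₁, hA₁⟩ : ∃ B : Matrix (Fin (m + 1)) (Fin (m + 1)) K,
      B = Matrix.of (fun i j => A' i.succ j.succ) - vecMulVec c b := ⟨_, rfl⟩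
  have hact : ∀ w, A' *ᵥ w = S *ᵥ (A *ᵥ (R *ᵥ w)) := fun w => by
    rw [hA', ← mulVec_mulVec, ← mulVec_mulVec]
  have hcol : A' *ᵥ Pi.single 0 1 = S *ᵥ (A *ᵥ v) := by rw [hact, hRe]
  have h00 : A' 0 0 = 1 := by
    have := congrFun hcol 0
    rw [hrow, hφAv, Matrix.mulVec_single] at this
    simpa using this
  have hblk : A' = blk 1 b c (A₁ + vecMulVec c b) := by
    conv_lhs => rw [blk_self A']
    rw [hA₁, sub_add_cancel, h00, hb, hc]
  have hcne : c ≠ 0 := by
    intro h0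
    apply heig 1
    rw [one_smul, ← hback (A *ᵥ v), ← hcol, hblk, h0, single_zero_eq, blk_mulVec]
    simp only [mul_one, dotProduct_zero, add_zero, one_smul, mulVec_zero]
    rw [← single_zero_eq, hRe]
  have hbne : b ≠ 0 := by
    intro h0
    apply hφz
    have e : φ ⬝ᵥ (A *ᵥ zz) = φ ⬝ᵥ zz := by
      rw [← hrow, ← hrow]
      have : S *ᵥ (A *ᵥ zz) = A' *ᵥ (S *ᵥ zz) := by rw [hact, hback]
      rw [this, hblk, h0, ← Fin.cons_self_tail (S *ᵥ zz), blk_mulVec]
      simp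
    rw [hN, sub_mulVec, one_mulVec, dotProduct_sub, e, sub_self]
  have hdet' : A₁.det = 1 := by
    have : A'.det = 1 := by
      rw [hA', det_mul, det_mul, hdet, mul_one, ← det_mul, hSR, det_one]
    rw [hblk, det_blk, add_sub_cancel_right] at this
    exact this
  refine ⟨S, R, b, c, A₁, hSR, hRS, hA' ▸ hblk, ?_, ?_, hbne, hcne, hdet', fun hm => ?_⟩
  · rw [hrow]; exact hφx
  · have : (y ᵥ* R) 0 = y ⬝ᵥ v := by
      rw [← hRe, dotProduct_mulVec, dotProduct_single, mul_one]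
    rw [this]; exact hyv
  -- the new matrix is good
  have hN' : ∀ (t : K) (h : Fin (m + 1) → K), S *ᵥ (N *ᵥ (R *ᵥ Fin.cons t h)) =
      Fin.cons (b ⬝ᵥ h) (t • c + (A₁ - 1) *ᵥ h + (b ⬝ᵥ h) • c) := by
    intro t h
    rw [hN, sub_mulVec, one_mulVec, mulVec_sub, ← hact, mulVec_mulVec, hSR, one_mulVec, hblk,
      blk_mulVec]
    funext i
    refine Fin.cases ?_ ?_ i
    · simp
    · intro i
      simp [sub_mulVec, add_mulVec, vecMulVec_mulVec]
      ring
  have hcoef : ∀ w, ∃ (t : K) (h : Fin (m + 1) → K), w = R *ᵥ Fin.cons t h ∧ t = φ ⬝ᵥ w := fun w =>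
    ⟨(S *ᵥ w) 0, Fin.tail (S *ᵥ w), by rw [Fin.cons_self_tail, hback], hrow w⟩
  have hinj : ∀ w, S *ᵥ w = 0 → w = 0 := fun w h => by rw [← hback w, h, mulVec_zero]
  have hRinj : ∀ (t : K) (h : Fin (m + 1) → K), R *ᵥ Fin.cons t h = 0 → h = 0 := by
    intro t h h0
    have := congrArg (fun w => S *ᵥ w) h0
    simp only [mulVec_mulVec, hSR, one_mulVec, mulVec_zero] at this
    funext i
    simpa using congrFun this i.succ
  have hrank : ¬ Rank1 (A₁ - 1) := by
    rintro ⟨p, q, hpq⟩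
    have hD : ∀ h, (A₁ - 1) *ᵥ h = (q ⬝ᵥ h) • p := fun h => by
      rw [hpq, vecMulVec_mulVec]; simp
    by_cases hN0 : N.det = 0
    · obtain ⟨-, hnim, hu⟩ := hsing hN0
      have noE : ∀ (t : K) (h : Fin (m + 1) → K), b ⬝ᵥ h ≠ 0 →
          t • c + (q ⬝ᵥ h) • p + (b ⬝ᵥ h) • c ≠ 0 := by
        intro t h hbh h0
        apply hnim ((b ⬝ᵥ h)⁻¹ • (R *ᵥ Fin.cons t h))
        rw [mulVec_smul, ← hback (N *ᵥ _), hN', hD, h0]
        have : (Fin.cons (b ⬝ᵥ h) 0 : Fin (m + 2) → K) = (b ⬝ᵥ h) • Pi.single 0 1 := by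
          rw [single_zero_eq]; funext i; refine Fin.cases ?_ ?_ i <;> simp
        rw [this, mulVec_smul, hRe, smul_smul, inv_mul_cancel₀ hbh, one_smul]
      rcases hu with ⟨u, hNu, hφu⟩ | ⟨h4, hker⟩
      · obtain ⟨t, h, rfl, ht⟩ := hcoef u
        have e := hN' t h
        rw [hNu, mulVec_zero, hD] at e
        have e0 := congrFun e 0
        simp only [Pi.zero_apply, Fin.cons_zero] at e0
        have e1 : t • c + (q ⬝ᵥ h) • p = 0 := by
          funext i
          have := congrFun e i.succ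
          simpa [← e0] using this.symm
        have htne : t ≠ 0 := ht ▸ hφu
        obtain ⟨h', hh'⟩ := exists_dot_ne_zero hbne
        rw [dotProduct_comm] at hh'
        have hγ : c = (-(q ⬝ᵥ h) / t) • p := by
          funext i
          have := congrFun e1 i
          simp only [Pi.add_apply, Pi.smul_apply, smul_eq_mul, Pi.zero_apply] at this ⊢
          rw [div_mul_eq_mul_div, eq_div_iff htne]
          linear_combination this
        have hγ0 : -(q ⬝ᵥ h) / t ≠ 0 := fun h0 => hcne (by rw [hγ, h0, zero_smul])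
        apply noE (-((q ⬝ᵥ h') / (-(q ⬝ᵥ h) / t)) - b ⬝ᵥ h') h' hh'
        funext i
        have hci := congrFun hγ i
        simp only [Pi.add_apply, Pi.smul_apply, smul_eq_mul, Pi.zero_apply] at hci ⊢
        rw [hci]
        generalize -(q ⬝ᵥ h) / t = γ at hγ0
        field_simp
        ring
      · obtain ⟨j, hj⟩ := Function.ne_iff.1 hcne
        obtain ⟨h, hh0, hh⟩ := exists_ker (k := 2) (by omega) ![q, Pi.single j 1]
        have hq : q ⬝ᵥ h = 0 := hh 0
        by_cases hbh : b ⬝ᵥ h = 0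
        · obtain ⟨s, hs⟩ := hker (R *ᵥ Fin.cons 0 h) (hinj _ (by
            rw [hN', hD, hq, hbh]; funext i; refine Fin.cases ?_ ?_ i <;> simp))
          have he : S *ᵥ (N *ᵥ v) = Fin.cons 0 c := by
            rw [← hRe, single_zero_eq, hN', hD]
            simp
          have := congrArg (fun w => S *ᵥ w) hs
          simp only [mulVec_mulVec, hSR, one_mulVec, mulVec_smul] at this
          rw [← mulVec_mulVec, he] at this
          have hj' := congrFun this j.succ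
          have hhj : h j = 0 := by simpa [single_dotProduct] using hh 1
          simp [hhj] at hj'
          rcases hj' with hs0 | hcj
          · apply hh0
            funext i
            have := congrFun this i.succ
            simpa [hs0] using this
          · exact hj hcj
        · exact noE (-(b ⬝ᵥ h)) h hbh (by rw [hq, zero_smul, add_zero, ← add_smul, neg_add_cancel, zero_smul])
    · have hinj' : ∀ w, N *ᵥ w = 0 → w = 0 := fun w h => by
        by_contra hw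
        exact hN0 (exists_mulVec_eq_zero_iff.1 ⟨w, hw, h⟩)
      by_cases h3 : m = 1
      · obtain ⟨h, hh0, hh⟩ := exists_ker (k := 1) (by omega) ![q]
        have hq : q ⬝ᵥ h = 0 := hh 0
        by_cases hbh : b ⬝ᵥ h = 0
        · refine hh0 (hRinj 0 h (hinj' _ (hinj _ ?_)))
          rw [hN', hD, hq, hbh]; funext i; refine Fin.cases ?_ ?_ i <;> simp
        · have hz : N *ᵥ ((b ⬝ᵥ h)⁻¹ • (R *ᵥ Fin.cons (-(b ⬝ᵥ h)) h)) = v := by
            rw [mulVec_smul, ← hback (N *ᵥ _), hN', hD, hq, zero_smul, add_zero, ← add_smul,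
              neg_add_cancel, zero_smul]
            have : (Fin.cons (b ⬝ᵥ h) 0 : Fin (m + 2) → K) = (b ⬝ᵥ h) • Pi.single 0 1 := by
              rw [single_zero_eq]; funext i; refine Fin.cases ?_ ?_ i <;> simp
            rw [this, mulVec_smul, hRe, smul_smul, inv_mul_cancel₀ hbh, one_smul]
          have hz' : N⁻¹ *ᵥ v = (b ⬝ᵥ h)⁻¹ • (R *ᵥ Fin.cons (-(b ⬝ᵥ h)) h) := by
            conv_lhs => rw [← hz]
            rw [mulVec_mulVec, nonsing_inv_mul N (isUnit_iff_ne_zero.2 hN0), one_mulVec]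
          apply hinv3 hN0 (by omega)
          rw [hz', dotProduct_add, hφv, dotProduct_smul, ← hrow, mulVec_mulVec, hSR, one_mulVec,
            Fin.cons_zero, smul_eq_mul, mul_neg, inv_mul_cancel₀ hbh, neg_add_cancel]
      · obtain ⟨h, hh0, hh⟩ := exists_ker (k := 2) (by omega) ![q, b]
        refine hh0 (hRinj 0 h (hinj' _ (hinj _ ?_)))
        rw [hN', hD, show q ⬝ᵥ h = 0 from hh 0, show b ⬝ᵥ h = 0 from hh 1]
        funext i; refine Fin.cases ?_ ?_ i <;> simp
  refine ⟨fun l hl => ?_, hrank⟩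
  have hl0 : l ≠ 0 := by
    rintro rfl
    rw [hl, zero_smul, det_zero] at hdet'
    exact zero_ne_one hdet'
  have hB : Bad A v φ := by
    refine ⟨l, hl0, fun h hh => ?_⟩
    obtain ⟨t, h', rfl, ht⟩ := hcoef h
    have ht0 : t = 0 := ht.trans hh
    subst ht0
    apply sub_eq_zero.1
    apply hinj
    have e1 : S *ᵥ (A *ᵥ (R *ᵥ Fin.cons 0 h')) = Fin.cons (b ⬝ᵥ h') (l • h' + (b ⬝ᵥ h') • c) := by
      rw [← hact, hblk, blk_mulVec, hl]
      funext i
      refine Fin.cases ?_ ?_ i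
      · simp
      · intro i
        simp [add_mulVec, vecMulVec_mulVec, smul_mulVec]
    have e2 : φ ⬝ᵥ (A *ᵥ (R *ᵥ Fin.cons 0 h')) = b ⬝ᵥ h' := by rw [← hrow, e1, Fin.cons_zero]
    rw [mulVec_sub, mulVec_sub, mulVec_smul, mulVec_smul, e1, e2, ← hcol, hblk, single_zero_eq,
      blk_mulVec, mulVec_mulVec, hSR, one_mulVec]
    funext i
    refine Fin.cases ?_ ?_ i <;> simp
  by_cases hcase : 4 ≤ m + 2 ∨ (m + 2 = 3 ∧ (2 : K) ≠ 0)
  · exact hbad hcase hB
  · push Not at hcase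
    obtain ⟨h4, h2⟩ := hcase
    obtain rfl : m = 1 := by omega
    have h2' : (2 : K) = 0 := h2 (by omega)
    apply hrank
    refine ⟨0, 0, ?_⟩
    rw [hl] at hdet'
    rw [det_smul, det_one, mul_one, Fintype.card_fin] at hdet'
    have : (l - 1) * (l - 1) = 0 := by linear_combination hdet' + (1 - l) * h2'
    have hl1 : l = 1 := sub_eq_zero.1 (mul_self_eq_zero.1 this)
    rw [hl, hl1, one_smul, sub_self]
    ext i j; simp [vecMulVec_apply]

theorem lu_form (hK : Big K) : ∀ (m : ℕ) (A : Matrix (Fin (m + 2)) (Fin (m + 2)) K), A.det = 1 →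
    Good A → ∀ x y : Fin (m + 2) → K, x ≠ 0 → y ≠ 0 →
    ∃ S R L U : Matrix (Fin (m + 2)) (Fin (m + 2)) K, S * R = 1 ∧ R * S = 1 ∧
      S * A * R = L * U ∧ RegLower L ∧ RegUpper U ∧ (S *ᵥ x) 0 ≠ 0 ∧ (y ᵥ* R) 0 ≠ 0 := by
  intro m
  induction m with
  | zero =>
    intro A hdet hA x y hx hy
    obtain ⟨S, R, b, c, A₁, h1, h2, h3, h4, h5, hb, hc, hd, -⟩ := step hK A hdet hA x y hx hy
    have hA1 : A₁ = 1 := by
      ext i j
      rw [show i = 0 from Fin.ext (by omega), show j = 0 from Fin.ext (by omega), Matrix.one_apply_eq]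
      rwa [Matrix.det_fin_one] at hd
    have hb0 : b 0 ≠ 0 := fun h => hb (funext fun i => by rw [show i = 0 from Fin.ext (by omega)]; exact h)
    have hc0 : c 0 ≠ 0 := fun h => hc (funext fun i => by rw [show i = 0 from Fin.ext (by omega)]; exact h)
    refine ⟨S, R, blk 1 0 c 1, blk 1 b 0 1, h1, h2, ?_, regLower_blk hc0 ?_,
      regUpper_blk hb0 regUpper_one, h4, h5⟩
    · rw [h3, hA1, blk_factor, add_sub_cancel_right]
    · show RegUpper (1 : Matrix (Fin 1) (Fin 1) K)ᵀ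
      rw [transpose_one]; exact regUpper_one
  | succ m ih =>
    intro A hdet hA x y hx hy
    obtain ⟨S, R, b, c, A₁, h1, h2, h3, h4, h5, hb, hc, hd, hg⟩ := step hK A hdet hA x y hx hy
    obtain ⟨S₁, R₁, L₁, U₁, g1, g2, g3, g4, g5, g6, g7⟩ := ih A₁ hd (hg (by omega)) c b hc hb
    refine ⟨blk 1 0 0 S₁ * S, R * blk 1 0 0 R₁, blk 1 0 (S₁ *ᵥ c) L₁, blk 1 (b ᵥ* R₁) 0 U₁,
      ?_, ?_, ?_, regLower_blk g6 g4, regUpper_blk g7 g5, ?_, ?_⟩
    · rw [Matrix.mul_assoc, ← Matrix.mul_assoc S, h1, Matrix.one_mul, blk_mul]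
      simp [g1, blk_one]
    · rw [Matrix.mul_assoc, ← Matrix.mul_assoc (blk 1 0 0 R₁), blk_mul]
      simp [g2, blk_one, h2]
    · have e : blk 1 0 0 S₁ * S * A * (R * blk 1 0 0 R₁) =
          blk 1 0 0 S₁ * (S * A * R) * blk 1 0 0 R₁ := by simp only [Matrix.mul_assoc]
      rw [e, h3, blk_mul, blk_mul, blk_mul, ← g3]
      simp [Matrix.add_mul, Matrix.mul_add, mul_vecMulVec, vecMulVec_mul, Matrix.mul_assoc, add_comm]
    · have : ((blk 1 0 0 S₁ * S) *ᵥ x) 0 = (S *ᵥ x) 0 := by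
        rw [← mulVec_mulVec, ← Fin.cons_self_tail (S *ᵥ x), blk_mulVec]; simp
      rw [this]; exact h4
    · have : (y ᵥ* (R * blk 1 0 0 R₁)) 0 = (y ᵥ* R) 0 := by
        rw [← vecMul_vecMul]
        simp [Matrix.vecMul, dotProduct, Fin.sum_univ_succ]
      rw [this]; exact h5

end Cfsg.Agent.RegUnipProd
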